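import Cfsg.Agent.TitsSquare.Defs

/-! The certificates for the line stabiliser. -/

set_option autoImplicit false
set_option maxRecDepth 100000
set_option Elab.async false

namespace CfsgLib.TitsSquare

open CfsgLib.Coset

theorem okK0 : allBlock 11 0 okK = true := by decide +kernel
theorem okK1 : allBlock 11 1 okK = true := by decide +kernel
theorem okK2 : allBlock 11 2 okK = true := by decide +kernel
theorem cntK : Nat.beq (cnt 14 0 memK) 2048 = true := by decide +kernel

end CfsgLib.TitsSquare
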