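import Cfsg.Agent.TitsSquare.Defs

/-! The certificates for the line stabiliser. -/

set_option autoImplicit false
set_option maxRecDepth 100000
set_option Elab.async false

namespace CfsgLib.TitsSquare

open CfsgLib.Coset

theorem okK3 : allBlock 11 3 okK = true := by decide +kernel
theorem okK4 : allBlock 11 4 okK = true := by decide +kernel

end CfsgLib.TitsSquare
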