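import Cfsg.Agent.TitsSquare.ChkC
import Cfsg.Agent.TitsSquare.ChkK0
import Cfsg.Agent.TitsSquare.ChkK1
import Cfsg.Agent.Coset.Ru.Schur.TitsIso
import Mathlib.GroupTheory.Sylow

/-!
Every non-identity element of the Tits group is a product of two conjugates of an element of order
thirteen.

An element of two-power order is conjugate into the stabiliser of a point and a pair, of order
2048; any other element commutes with an element of order 3, 5 or 13, conjugate into the centraliser
of one of three fixed elements, of orders 108, 50 and 13.  These subgroups are enumerated by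
sifting, and each of their elements carries a certificate.
-/

set_option autoImplicit false
set_option maxRecDepth 100000
set_option Elab.async false

namespace CfsgLib.TitsSquare

open CfsgLib.Coset Cfsg.Lie

local notation "Gr" => Ru.Q
local notation "L" => Ru.Lq

/-- The action. -/
noncomputable abbrev ρ : Gr →* Equiv.Perm (Fin 1755) := Ru.σ

/-- The element of order thirteen. -/
noncomputable def X : Gr := ev L xW

/-- A product of two conjugates of `X`. -/
def IsSq (g : Gr) : Prop := ∃ u v : Gr, g = u * X * u⁻¹ * (v * X * v⁻¹)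

theorem IsSq.conj {g : Gr} (h : IsSq g) (c : Gr) : IsSq (c * g * c⁻¹) := by
  obtain ⟨u, v, rfl⟩ := h
  exact ⟨c * u, c * v, by group⟩

theorem IsSq.of_conj {g : Gr} (c : Gr) (h : IsSq (c * g * c⁻¹)) : IsSq g := by
  simpa [mul_assoc] using h.conj c⁻¹

theorem valid_of (r : Nat) (P : List Nat) (h : levOK (mkS r P) = true) :
    (mkS r P).Valid L ρ Tb where
  hm := Ru.matches_σ
  inv l := Ru.inv_q l
  inv_lt l hl := hl
  lev i hi := ⟨11, by rw [Ru.len_Lq]; exact of_allBelow h i hi⟩
  card := by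
    show Nat.card Gr = ∏ i : Fin 3, (mkS r P).m i
    rw [Ru.card_Q.1, Fin.prod_univ_three]
    show 17971200 = 1755 * 1024 * 10
    norm_num
  fin := Ru.card_Q_le.1

theorem VK : SK.Valid L ρ Tb := valid_of _ _ levK

theorem sift_letters {S : SiftData} (V : S.Valid L ρ Tb) {img : Nat → Nat} :
    ∀ {w : List Nat}, S.sift Tb img S.k = some w → ∀ l ∈ w, l < (L).length := by
  suffices ∀ i ≤ S.k, ∀ w, S.sift Tb img i = some w → ∀ l ∈ w, l < (L).length from
    fun {w} h => this S.k le_rfl w h
  intro i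
  induction i with
  | zero =>
    intro _ w h
    cases h
    simp
  | succ i ih =>
    intro hi w h
    change Option.rec (motive := fun _ => Option (List Nat)) none (fun acc =>
      force (followI (tget Tb) S.iv (img i) acc) fun p => force (S.I i p) fun j =>
        cond (Nat.ble (Nat.add j 1) (S.m i)) (some (S.wd i j ++ acc)) none) (S.sift Tb img i) =
      some w at h
    cases hs : S.sift Tb img i with
    | none => rw [hs] at h; cases h
    | some acc =>
      rw [hs] at h
      simp only [force_eq] at h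
      cases hb : Nat.ble (Nat.add (S.I i (followI (tget Tb) S.iv (img i) acc)) 1) (S.m i) with
      | false => rw [hb, cond_false] at h; cases h
      | true =>
        rw [hb, cond_true, Option.some.injEq] at h
        subst h
        exact fun l hl => (List.mem_append.mp hl).elim
          ((V.wd_ok hi (Nat.ble_eq.mp hb)).1 l) (ih (by omega) acc hs l)

theorem letters4 {u w : List Nat} (h : checkLetters 4 [u, w] = true) :
    checkLetters (L).length [u, w] = true := by rwa [Ru.len_Lq]

theorem ev_of_eqT {S : SiftData} (V : S.Valid L ρ Tb) {u w : List Nat} (h : eqT S u w = true) :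
    ev L u = ev L w :=
  V.eq_of_eqB (letters4 (cond_false_eq_true.mp h).1) (cond_false_eq_true.mp h).2

theorem ev_rep (w : List Nat) : ∀ m, ev L (rep m w) = ev L w ^ m := by
  intro m
  induction m with
  | zero => simp [rep]
  | succ m ih => rw [show rep (m + 1) w = w ++ rep m w from rfl, ev_append, ih, pow_succ']

theorem rep_letters {k : Nat} {w : List Nat} (hw : ∀ l ∈ w, l < k) :
    ∀ m, ∀ l ∈ rep m w, l < k := by
  intro m
  induction m with
  | zero => intro l h; simp [rep] at h
  | succ m ih => exact fun l h => (List.mem_append.mp h).elim (hw l) (ih l)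

theorem ev_inv (w : List Nat) : ev L (invWd id w) = (ev L w)⁻¹ := ev_invWd Ru.inv_q w

theorem ev_cw (u : Nat) : ev L (cw u) = ev L (unpack 64 u) * X * (ev L (unpack 64 u))⁻¹ := by
  rw [cw, ev_append, ev_append, ev_inv, X, mul_assoc]

theorem isSq_of_sqOK {S : SiftData} (V : S.Valid L ρ Tb) {w : List Nat} {u v : Nat}
    (h : sqOK S w u v = true) (h1 : ev L w ≠ 1) : IsSq (ev L w) := by
  rw [sqOK] at h
  cases he : eqT S w [] with
  | true => exact absurd ((ev_of_eqT V he).trans (ev_nil _)) h1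
  | false =>
    rw [he, cond_false] at h
    refine ⟨ev L (unpack 64 u), ev L (unpack 64 v), ?_⟩
    rw [ev_of_eqT V h, ev_append, ev_cw, ev_cw]

theorem cnt_eq : ∀ (d s : Nat) (f : Nat → Bool),
    cnt d s f = ((Finset.Ico (s * 2 ^ d) ((s + 1) * 2 ^ d)).filter fun i => f i = true).card := by
  intro d
  induction d with
  | zero =>
    intro s f
    simp only [pow_zero, mul_one]
    rw [Nat.Ico_succ_singleton, Finset.filter_singleton]
    show cond (f s) 1 0 = _
    cases f s <;> simp
  | succ d ih =>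
    intro s f
    show cnt d (2 * s) f + cnt d (2 * s + 1) f = _
    rw [ih, ih, ← Finset.card_union_of_disjoint, ← Finset.filter_union,
      Finset.Ico_union_Ico_eq_Ico (Nat.mul_le_mul_right _ (Nat.le_succ _))
        (Nat.mul_le_mul_right _ (Nat.le_succ _))]
    · congr 3 <;> simp only [Nat.succ_eq_add_one, pow_succ] <;> ring
    · refine Finset.disjoint_left.mpr fun a ha hb => ?_
      rw [Finset.mem_filter, Finset.mem_Ico] at ha hb
      exact absurd hb.1.1 (Nat.not_le.mpr ha.1.2)

attribute [local irreducible] cnt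

theorem card_of_count {Y : Subgroup Gr} {d : Nat} {f : Nat → Bool} (φ : Gr → Nat)
    (hmem : ∀ x ∈ Y, f (φ x) = true) (hlt : ∀ i, f i = true → i < 2 ^ d)
    (hinj : Set.InjOn φ Y) (hsurj : ∀ i, f i = true → ∃ x ∈ Y, φ x = i) :
    Nat.card Y = cnt d 0 f := by
  have hb : Set.BijOn φ (Y : Set Gr) {i | f i = true} := ⟨hmem, hinj, hsurj⟩
  rw [cnt_eq, ← Set.ncard_coe_finset]
  refine (Nat.card_congr hb.equiv).trans ?_
  rw [Nat.card_coe_set_eq]
  congr 1
  ext i
  simp only [Set.mem_setOf_eq, Finset.coe_filter, Finset.mem_Ico, zero_mul, one_mul, zero_add,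
    Nat.zero_le, true_and, and_iff_right_iff_imp]
  exact ⟨fun h => ⟨hlt i h, h⟩, fun h => h.2⟩

/-- An element of prime power order is conjugate into a subgroup containing a Sylow subgroup. -/
theorem exists_conj_mem {G : Type*} [Group G] [Finite G] {p a : Nat} [Fact p.Prime]
    (ha : (Nat.card G).factorization p = a) {Y : Subgroup G} (hY : p ^ a ∣ Nat.card Y) {y : G}
    {n : Nat} (hy : y ^ p ^ n = 1) : ∃ h : G, h * y * h⁻¹ ∈ Y := by
  obtain ⟨P, hP⟩ := Sylow.exists_subgroup_card_pow_prime p hY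
  have hc : Nat.card (P.map Y.subtype) = p ^ (Nat.card G).factorization p := by
    rw [ha, ← hP]
    exact (Nat.card_congr (P.equivMapOfInjective _ Y.subtype_injective).toEquiv).symm
  obtain ⟨k, -, hk⟩ := (Nat.dvd_prime_pow (Fact.out : p.Prime)).mp (orderOf_dvd_of_pow_eq_one hy)
  have hpg : IsPGroup p (Subgroup.zpowers y) :=
    IsPGroup.of_card (n := k) (by rw [Nat.card_zpowers, hk])
  obtain ⟨Q, hQ⟩ := hpg.exists_le_sylow
  obtain ⟨h, hh⟩ := MulAction.exists_smul_eq G Q (Sylow.ofCard _ hc)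
  refine ⟨h, ?_⟩
  have hm : h * y * h⁻¹ ∈ ((h • Q : Sylow p G) : Subgroup G) := by
    rw [Sylow.coe_subgroup_smul]
    exact ⟨y, hQ (Subgroup.mem_zpowers y), rfl⟩
  rw [hh, Sylow.coe_ofCard] at hm
  obtain ⟨z, -, hz⟩ := hm
  exact hz ▸ z.2

theorem factorization_card {p a r : Nat} (hp : p.Prime) (he : 17971200 = p ^ a * r)
    (hr : ¬ p ∣ r) : (Nat.card Gr).factorization p = a := by
  have : Fact p.Prime := ⟨hp⟩
  have hr0 : r ≠ 0 := by rintro rfl; simp at he
  rw [Ru.card_Q.1, he, Nat.factorization_def _ hp, padicValNat.mul (pow_ne_zero _ hp.ne_zero) hr0,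
    padicValNat.prime_pow, padicValNat.eq_zero_of_not_dvd hr, add_zero]

theorem mem_inPair {q : Nat} : inPair q = true ↔ q = pairA ∨ q = pairB := by
  constructor
  · intro h
    rw [inPair] at h
    cases hh : Nat.beq q pairA with
    | true => exact Or.inl (Nat.eq_of_beq_eq_true hh)
    | false => rw [hh, cond_false] at h; exact Or.inr (Nat.eq_of_beq_eq_true h)
  · rintro (rfl | rfl) <;> decide

/-- A submonoid of a finite group is a subgroup. -/
noncomputable def ofSubmonoid (M : Submonoid Gr) : Subgroup Gr :=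
  { M with
    inv_mem' := fun {x} hx => by
      have := Ru.card_Q_le.1
      obtain ⟨n, hn⟩ := (isOfFinOrder_of_finite x).mem_powers_iff_mem_zpowers.mpr
        (inv_mem (Subgroup.mem_zpowers x))
      show x⁻¹ ∈ M
      rw [← hn]
      exact pow_mem hx n }

theorem mem_ofSubmonoid {M : Submonoid Gr} {x : Gr} : x ∈ ofSubmonoid M ↔ x ∈ M := Iff.rfl

/-- The stabiliser of a point and a pair. -/
def lineMon : Submonoid Gr where
  carrier := {x | im ρ x 0 = 0 ∧ inPair (im ρ x pairA) = true ∧ inPair (im ρ x pairB) = true}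
  one_mem' := ⟨im_one _, by rw [im_one]; decide, by rw [im_one]; decide⟩
  mul_mem' := by
    rintro x y ⟨x0, xa, xb⟩ ⟨y0, ya, yb⟩
    refine ⟨by rw [im_mul, x0, y0], ?_, ?_⟩
    · rw [im_mul]; rcases mem_inPair.mp xa with h | h <;> rw [h] <;> assumption
    · rw [im_mul]; rcases mem_inPair.mp xb with h | h <;> rw [h] <;> assumption

/-- The stabiliser of a point and a pair. -/
noncomputable def line : Subgroup Gr := ofSubmonoid lineMon

theorem jK_lt {i : Nat} (hi : i < 10240) : ∀ l < SK.k, jK i l < SK.m l := by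
  intro l hl
  change l < 3 at hl
  interval_cases l
  · show 0 < 1755; norm_num
  · show Nat.land i 1023 < 1024
    exact Nat.lt_succ_of_le Nat.and_le_right
  · show Nat.shiftRight i 10 < 10
    rw [Nat.shiftRight_eq, Nat.shiftRight_eq_div_pow]; omega

theorem wK_letters {i : Nat} (hi : i < 10240) : ∀ l ∈ wK i, l < (L).length :=
  VK.elw_letters (jK_lt hi) 3 le_rfl

theorem wK_zero {i : Nat} (hi : i < 10240) : im ρ (ev L (wK i)) 0 = 0 := by
  have h0 : SK.wd 0 0 = [] := by decide +kernel
  have h := VK.elw_base (jK_lt hi) (h := 0) 3 le_rfl (by norm_num)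
  rw [im_ev Ru.matches_σ (wK_letters hi) (by norm_num)]
  refine Eq.trans h ?_
  show follow (tget Tb) (follow (tget Tb) 0 (SK.wd 0 0)) [] = 0
  rw [h0]; rfl

theorem memK_lt {i : Nat} (h : memK i = true) : i < 10240 :=
  Nat.ble_eq.mp (cond_false_eq_true.mp h).1

theorem presPair_iff {w : List Nat} (hw : ∀ l ∈ w, l < (L).length) :
    presPair w = true ↔ inPair (im ρ (ev L w) pairA) = true ∧ inPair (im ρ (ev L w) pairB) = true := by
  rw [presPair, cond_false_eq_true, followF_eq, followF_eq,
    ← im_ev Ru.matches_σ hw (by decide), ← im_ev Ru.matches_σ hw (by decide)]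

/-- The coordinates of an element. -/
noncomputable def coords (x : Gr) : Nat → Nat := Classical.choose (VK.exists_elw x)

theorem coords_spec (x : Gr) : (∀ i < 3, coords x i < SK.m i) ∧ x = ev L (SK.elw 3 (coords x)) :=
  Classical.choose_spec (VK.exists_elw x)

/-- The candidate number of an element. -/
noncomputable def numK (x : Gr) : Nat := coords x 1 + 1024 * coords x 2

theorem elw3 {j j' : Nat → Nat} (h : ∀ i < 3, j i = j' i) : SK.elw 3 j = SK.elw 3 j' := by
  show SK.wd 2 (j 2) ++ (SK.wd 1 (j 1) ++ (SK.wd 0 (j 0) ++ [])) = _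
  rw [h 0 (by norm_num), h 1 (by norm_num), h 2 (by norm_num)]
  rfl

theorem wK_numK {x : Gr} (hx : im ρ x 0 = 0) : numK x < 10240 ∧ ev L (wK (numK x)) = x := by
  obtain ⟨hj, he⟩ := coords_spec x
  have h1 : coords x 1 < 1024 := hj 1 (by norm_num)
  have h2 : coords x 2 < 10 := hj 2 (by norm_num)
  have hlt : numK x < 10240 := by rw [numK]; omega
  refine ⟨hlt, ?_⟩
  have h0 : coords x 0 = 0 := by
    have hb := VK.elw_base hj (h := 0) 3 le_rfl (by norm_num)
    have hw := VK.wd_ok (i := 0) (by decide) (hj 0 (by norm_num))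
    rw [← im_ev Ru.matches_σ (VK.elw_letters hj 3 le_rfl) (show SK.B 0 < 1755 by decide),
      ← he] at hb
    change im ρ x 0 = follow (tget Tb) 0 (SK.wd 0 (coords x 0)) at hb
    have := hw.2.2
    change follow (tget Tb) 0 (SK.wd 0 (coords x 0)) = coords x 0 at this
    rw [← this, ← hb, hx]
  conv_rhs => rw [he]
  rw [wK]
  refine congrArg (ev L) (elw3 fun i hi => ?_)
  interval_cases i
  · exact h0.symm
  · show Nat.land (numK x) 1023 = _
    rw [numK, show ((coords x 1 + 1024 * coords x 2).land 1023) =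
      (coords x 1 + 1024 * coords x 2) &&& (2 ^ 10 - 1) from rfl, Nat.and_two_pow_sub_one_eq_mod]
    omega
  · show Nat.shiftRight (numK x) 10 = _
    rw [numK, Nat.shiftRight_eq, Nat.shiftRight_eq_div_pow]; omega

theorem memK_numK {x : Gr} (hx : x ∈ line) : memK (numK x) = true := by
  obtain ⟨x0, xa, xb⟩ := hx
  obtain ⟨hlt, he⟩ := wK_numK x0
  rw [memK, cond_false_eq_true, Nat.ble_eq]
  exact ⟨hlt, (presPair_iff (wK_letters hlt)).mpr (by rw [he]; exact ⟨xa, xb⟩)⟩

theorem mem_line_wK {i : Nat} (h : memK i = true) : ev L (wK i) ∈ line :=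
  ⟨wK_zero (memK_lt h), (presPair_iff (wK_letters (memK_lt h))).mp (cond_false_eq_true.mp h).2⟩

theorem card_line : Nat.card line = 2048 := by
  rw [card_of_count (d := 14) (f := memK) numK (fun x hx => memK_numK hx)
    (fun i h => (memK_lt h).trans (by norm_num))]
  · exact Nat.eq_of_beq_eq_true cntK
  · intro x hx y hy h
    rw [← (wK_numK hx.1).2, h, (wK_numK hy.1).2]
  · intro i h
    refine ⟨_, mem_line_wK h, ?_⟩
    have hlt := memK_lt h
    obtain ⟨hj, he⟩ := coords_spec (ev L (wK i))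
    have := VK.elw_inj hj (jK_lt hlt) fun l hl => by
      rw [← im_ev Ru.matches_σ (VK.elw_letters hj SK.k le_rfl) (VK.base_lt hl),
        ← im_ev Ru.matches_σ (VK.elw_letters (jK_lt hlt) SK.k le_rfl) (VK.base_lt hl)]
      exact congrArg (fun g => im ρ g (SK.B l)) he.symm
    rw [numK, this 1 (by decide), this 2 (by decide)]
    show Nat.land i 1023 + 1024 * Nat.shiftRight i 10 = i
    rw [show i.land 1023 = i &&& (2 ^ 10 - 1) from rfl, Nat.and_two_pow_sub_one_eq_mod,
      Nat.shiftRight_eq, Nat.shiftRight_eq_div_pow]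
    omega

theorem okK_all {i : Nat} (hi : i < 10240) : okK i = true := by
  have h := fun s (hs : allBlock 11 s okK = true) => allBlock_iff 11 s okK hs i
  rcases Nat.lt_or_ge i 2048 with h1 | h1
  · exact h 0 okK0 (by omega) (by omega)
  rcases Nat.lt_or_ge i 4096 with h2 | h2
  · exact h 1 okK1 (by omega) (by omega)
  rcases Nat.lt_or_ge i 6144 with h3 | h3
  · exact h 2 okK2 (by omega) (by omega)
  rcases Nat.lt_or_ge i 8192 with h4 | h4
  · exact h 3 okK3 (by omega) (by omega)
  exact h 4 okK4 (by omega) (by omega)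

theorem isSq_of_two {g : Gr} (hg : g ≠ 1) {n : Nat} (hn : g ^ 2 ^ n = 1) : IsSq g := by
  have := Ru.card_Q_le.1
  have : Fact (Nat.Prime 2) := ⟨Nat.prime_two⟩
  obtain ⟨h, hh⟩ := exists_conj_mem (Y := line)
    (factorization_card Nat.prime_two (a := 11) (r := 8775) (by norm_num) (by norm_num))
    (by rw [card_line]; norm_num) hn
  obtain ⟨hlt, he⟩ := wK_numK hh.1
  have hm := memK_numK hh
  have hok := okK_all hlt
  rw [okK, hm, cond_true, force_eq] at hok
  refine IsSq.of_conj h (he ▸ isSq_of_sqOK VK hok ?_)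
  rw [he]
  exact fun h1 => hg (conj_eq_one_iff.mp h1)

/-- The data of an element of odd prime order is right. -/
structure CData.Good (D : CData) (c : Nat) : Prop where
  prime : D.p.Prime
  lev : levOK D.S = true
  base : D.baseOK = true
  ok : allBelow 11 1755 D.ok = true
  count : Nat.beq (cnt 11 0 D.hit) c = true

namespace CData.Good

variable {D : CData} {c : Nat}

theorem valid (H : D.Good c) : D.S.Valid L ρ Tb := valid_of _ _ H.lev

theorem base_facts (H : D.Good c) : (∀ l ∈ D.t, l < (L).length) ∧ im ρ (ev L D.t) 0 = 5 ∧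
    im ρ (ev L D.t ^ D.e) 0 = D.r ∧ ev L D.t ^ D.p = 1 ∧ ev L D.t ≠ 1 := by
  have h := H.base
  rw [CData.baseOK, cond_false_eq_true, cond_false_eq_true, cond_false_eq_true,
    cond_false_eq_true, followF_eq, followF_eq] at h
  obtain ⟨hl, h5, hr, hp, hn⟩ := h
  have hl' : ∀ l ∈ D.t, l < (L).length := by
    rw [Ru.len_Lq]; exact letters_lt hl _ (List.mem_singleton_self _)
  refine ⟨hl', ?_, ?_, ?_, fun h1 => ?_⟩
  · rw [im_ev Ru.matches_σ hl' (by norm_num)]; exact Nat.eq_of_beq_eq_true h5
  · rw [← ev_rep, im_ev Ru.matches_σ (rep_letters hl' _) (by norm_num)]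
    exact Nat.eq_of_beq_eq_true hr
  · rw [← ev_rep]
    exact ((H.valid.eqB_iff (show 3 ≤ 8 by decide) (rep_letters hl' _) (by simp)).mp hp).trans (ev_nil _)
  · rw [(H.valid.eqB_iff (show 3 ≤ 8 by decide) hl' (by simp)).mpr (h1.trans (ev_nil _).symm),
      cond_true] at hn
    exact Bool.noConfusion hn

theorem img_eq (H : D.Good c) {x : Gr} (hx : Commute (ev L D.t) x) :
    ∀ i < D.S.k, D.img (im ρ x 0) i = im ρ x (D.S.B i) := by
  obtain ⟨hl, h5, hr, -, -⟩ := H.base_facts
  intro i hi
  change i < 3 at hi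
  have h0 : im ρ x 0 < 1755 := im_lt x (by norm_num)
  interval_cases i
  · rfl
  · show followF (tget Tb) (im ρ x 0) D.t = im ρ x 5
    rw [followF_eq, ← im_ev Ru.matches_σ hl h0, ← im_mul, ← hx.eq, im_mul, h5]
  · show followF (tget Tb) (im ρ x 0) (rep D.e D.t) = im ρ x D.r
    rw [followF_eq, ← im_ev Ru.matches_σ (rep_letters hl _) h0, ev_rep, ← im_mul,
      ← (hx.pow_left D.e).eq, im_mul, hr]

theorem sift_cent (H : D.Good c) {x : Gr} (hx : Commute (ev L D.t) x) :
    ∃ w, D.S.sift Tb (D.img (im ρ x 0)) 3 = some w ∧ (∀ l ∈ w, l < (L).length) ∧ ev L w = x ∧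
      D.good (im ρ x 0) w = true := by
  obtain ⟨hl, -, -, -, -⟩ := H.base_facts
  obtain ⟨w, hs, hw, he⟩ := H.valid.sift_eq (x := x) (H.img_eq hx)
  refine ⟨w, hs, hw, he, ?_⟩
  rw [CData.good, cond_false_eq_true]
  refine ⟨(H.valid.eqB_iff (show 3 ≤ 8 by decide) (by simpa [or_imp, forall_and] using ⟨hw, hl⟩)
    (by simpa [or_imp, forall_and] using ⟨hl, hw⟩)).mpr ?_, ?_⟩
  · rw [ev_append, ev_append, he, hx.eq]
  · rw [followF_eq, ← im_ev Ru.matches_σ hw (by norm_num), he]
    exact Nat.beq_refl _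

theorem card_cent (H : D.Good c) : Nat.card (Subgroup.centralizer {ev L D.t}) = c := by
  obtain ⟨hl, -, -, -, -⟩ := H.base_facts
  rw [card_of_count (d := 11) (f := D.hit) (fun x => im ρ x 0)]
  · exact Nat.eq_of_beq_eq_true H.count
  · intro x hx
    obtain ⟨w, hs, -, -, hg⟩ := H.sift_cent (Subgroup.mem_centralizer_singleton_iff.mp hx).symm
    rw [CData.hit, cond_false_eq_true, Nat.ble_eq, hs]
    exact ⟨im_lt x (by norm_num), hg⟩
  · intro i h
    exact (Nat.ble_eq.mp (cond_false_eq_true.mp h).1).trans (by norm_num)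
  · intro x hx y hy h
    have hx' := H.img_eq (Subgroup.mem_centralizer_singleton_iff.mp hx).symm
    have hy' := H.img_eq (Subgroup.mem_centralizer_singleton_iff.mp hy).symm
    exact H.valid.ext fun i hi => by
      rw [← hx' i hi, ← hy' i hi]; exact congrArg (fun q => D.img q i) h
  · intro q h
    rw [CData.hit, cond_false_eq_true] at h
    have hq : q < 1755 := Nat.ble_eq.mp h.1
    cases hs : D.S.sift Tb (D.img q) 3 with
    | none => rw [hs] at h; exact Bool.noConfusion h.2
    | some w =>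
      rw [hs] at h
      have h2 : D.good q w = true := h.2
      rw [CData.good, cond_false_eq_true, followF_eq] at h2
      have hw : ∀ l ∈ w, l < (L).length := sift_letters H.valid hs
      refine ⟨ev L w, Subgroup.mem_centralizer_singleton_iff.mpr ?_, ?_⟩
      · rw [← ev_append, ← ev_append]
        exact (H.valid.eqB_iff (show 3 ≤ 8 by decide) (by simpa [or_imp, forall_and] using ⟨hw, hl⟩)
          (by simpa [or_imp, forall_and] using ⟨hl, hw⟩)).mp h2.1
      · show im ρ (ev L w) 0 = q
        rw [im_ev Ru.matches_σ hw (by norm_num)]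
        exact Nat.eq_of_beq_eq_true h2.2

theorem of_cent (H : D.Good c) {x : Gr} (hx : Commute (ev L D.t) x) :
    (x ≠ 1 → IsSq x) ∧ (x ≠ 1 → x ^ D.p = 1 → ∃ u : Gr, ∃ k, ¬ D.p ∣ k ∧
      x = u * ev L D.t ^ k * u⁻¹) := by
  obtain ⟨w, hs, hw, he, hg⟩ := H.sift_cent hx
  have hok := of_allBelow H.ok _ (im_lt (ρ := ρ) x (show 0 < 1755 by norm_num))
  rw [CData.ok, hs] at hok
  change cond (D.good _ w) (D.recOK w _) true = true at hok
  rw [hg, cond_true, CData.recOK, cond_false_eq_true] at hok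
  refine ⟨fun h1 => he ▸ isSq_of_sqOK H.valid hok.1 (he.symm ▸ h1), fun h1 hp => ?_⟩
  have h2 := hok.2
  rw [CData.pOK] at h2
  cases hw0 : eqT D.S w [] with
  | true => exact absurd (he.symm.trans ((ev_of_eqT H.valid hw0).trans (ev_nil _))) h1
  | false =>
    rw [hw0, cond_false, (H.valid.eqB_iff (show 3 ≤ 8 by decide) (rep_letters hw _) (by simp)).mpr
      (by rw [ev_rep, he, hp, ev_nil]), cond_true] at h2
    cases hk : Nat.beq (Nat.mod (D.cert (im ρ x 0)).2.2.2 D.p) 0 with
    | true => rw [hk, cond_true] at h2; exact Bool.noConfusion h2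
    | false =>
      rw [hk, cond_false] at h2
      refine ⟨_, _, fun hd => ?_, he.symm.trans ((ev_of_eqT H.valid h2).trans (by
        rw [ev_append, ev_append, ev_rep, ev_inv, mul_assoc]))⟩
      have : Nat.beq ((D.cert (im ρ x 0)).2.2.2 % D.p) 0 = true := by
        rw [Nat.mod_eq_zero_of_dvd hd]; rfl
      exact Bool.noConfusion (hk.symm.trans this)

theorem isSq_of_commute (H : D.Good c) {a : Nat} (ha : (Nat.card Gr).factorization D.p = a)
    (hc : D.p ^ a ∣ c) {g y : Gr} (hg : g ≠ 1) (hy1 : y ≠ 1) (hy : y ^ D.p = 1)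
    (hgy : Commute g y) : IsSq g := by
  have := Ru.card_Q_le.1
  have : Fact D.p.Prime := ⟨H.prime⟩
  obtain ⟨h, hh⟩ := exists_conj_mem (Y := Subgroup.centralizer {ev L D.t}) ha
    (by rwa [H.card_cent]) (y := y) (n := 1) (by rwa [pow_one])
  have hcom : Commute (ev L D.t) (h * y * h⁻¹) :=
    (Subgroup.mem_centralizer_singleton_iff.mp hh).symm
  obtain ⟨u, k, hk, he⟩ := (H.of_cent hcom).2 (fun h1 => hy1 (conj_eq_one_iff.mp h1))
    (by rw [conj_pow, hy, mul_one, mul_inv_cancel])
  refine IsSq.of_conj (u⁻¹ * h) ((H.of_cent ?_).1 fun h1 => hg (conj_eq_one_iff.mp h1))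
  have h2 : Commute (ev L D.t ^ k) (u⁻¹ * h * g * (u⁻¹ * h)⁻¹) := by
    have e : ev L D.t ^ k = u⁻¹ * h * y * (u⁻¹ * h)⁻¹ := by
      calc ev L D.t ^ k = u⁻¹ * (u * ev L D.t ^ k * u⁻¹) * u := by group
        _ = _ := by rw [← he]; group
    rw [e]
    exact (Commute.conj_iff _).mpr hgy.symm
  obtain ⟨-, -, -, hp, -⟩ := H.base_facts
  have hcop : Nat.Coprime k (orderOf (ev L D.t)) :=
    Nat.Coprime.coprime_dvd_right (orderOf_dvd_of_pow_eq_one hp)
      ((H.prime.coprime_iff_not_dvd.mpr hk).symm)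
  obtain ⟨m, hm⟩ := exists_pow_eq_self_of_coprime hcop
  rw [← hm]
  exact h2.pow_left m

end CData.Good

theorem good3 : D3.Good 108 := ⟨by decide, lev3, base3, ok3, cnt3⟩
theorem good5 : D5.Good 50 := ⟨by decide, lev5, base5, ok5, cnt5⟩
theorem good13 : D13.Good 13 := ⟨by decide, lev13, base13, ok13, cnt13⟩

theorem orderOf_X : orderOf X = 13 := by
  have : Fact (Nat.Prime 13) := ⟨by norm_num⟩
  obtain ⟨-, -, -, hp, h1⟩ := good13.base_facts
  exact orderOf_eq_prime hp h1

theorem square_covers (g : Gr) (hg : g ≠ 1) : IsSq g := by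
  have := Ru.card_Q_le.1
  have hdvd : orderOf g ∣ 17971200 := Ru.card_Q.1 ▸ orderOf_dvd_natCard g
  have key : ∀ p, p.Prime → p ∣ orderOf g →
      g ^ (orderOf g / p) ≠ 1 ∧ (g ^ (orderOf g / p)) ^ p = 1 := by
    intro p hp hd
    have hpos := orderOf_pos g
    refine ⟨pow_ne_one_of_lt_orderOf (Nat.div_pos (Nat.le_of_dvd hpos hd) hp.pos).ne'
      (Nat.div_lt_self hpos hp.one_lt), ?_⟩
    rw [← pow_mul, Nat.div_mul_cancel hd, pow_orderOf_eq_one]
  by_cases h3 : 3 ∣ orderOf g
  · obtain ⟨h1, h2⟩ := key 3 Nat.prime_three h3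
    exact good3.isSq_of_commute
      (factorization_card Nat.prime_three (a := 3) (r := 665600) (by norm_num [D3]) (by norm_num [D3]))
      (by norm_num [D3]) hg h1 h2 (Commute.self_pow g _)
  by_cases h5 : 5 ∣ orderOf g
  · obtain ⟨h1, h2⟩ := key 5 Nat.prime_five h5
    exact good5.isSq_of_commute
      (factorization_card Nat.prime_five (a := 2) (r := 718848) (by norm_num [D5]) (by norm_num [D5]))
      (by norm_num [D5]) hg h1 h2 (Commute.self_pow g _)
  by_cases h13 : 13 ∣ orderOf g
  · obtain ⟨h1, h2⟩ := key 13 (by norm_num) h13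
    exact good13.isSq_of_commute
      (factorization_card (p := 13) (by norm_num) (a := 1) (r := 1382400) (by norm_num [D13]) (by norm_num [D13]))
      (by norm_num [D13]) hg h1 h2 (Commute.self_pow g _)
  refine isSq_of_two hg (n := 11) (orderOf_dvd_iff_pow_eq_one.mp ?_)
  have c3 : Nat.Coprime (orderOf g) (3 ^ 3) :=
    (Nat.Prime.coprime_iff_not_dvd Nat.prime_three |>.mpr h3).symm.pow_right 3
  have c5 : Nat.Coprime (orderOf g) (5 ^ 2) :=
    (Nat.Prime.coprime_iff_not_dvd Nat.prime_five |>.mpr h5).symm.pow_right 2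
  have c13 : Nat.Coprime (orderOf g) 13 :=
    (Nat.Prime.coprime_iff_not_dvd (by norm_num : Nat.Prime 13) |>.mpr h13).symm
  refine ((c3.mul_right c5).mul_right c13).dvd_of_dvd_mul_right ?_
  norm_num
  exact hdvd

theorem transfer {G H : Type*} [Group G] [Group H] (e : G ≃* H) {x : G} (ho : Odd (orderOf x))
    (hx : ∀ g : G, g ≠ 1 → ∃ u v : G, g = u * x * u⁻¹ * (v * x * v⁻¹)) :
    ∃ y : H, Odd (orderOf y) ∧
      ∀ g : H, g ≠ 1 → ∃ u v : H, g = (u * y * u⁻¹) * (v * y * v⁻¹) := by
  refine ⟨e x, by rwa [e.orderOf_eq], fun g hg => ?_⟩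
  obtain ⟨u, v, h⟩ := hx (e.symm g) fun h1 => hg (by simpa using congrArg e h1)
  exact ⟨e u, e v, by simpa using congrArg e h⟩

theorem odd_X : Odd (orderOf X) := by rw [orderOf_X]; exact ⟨6, rfl⟩

/-- An odd class of the Tits group whose square covers the non-identity elements. -/
theorem exists_class_tits : ∃ x : TitsGroup, Odd (orderOf x) ∧
    ∀ g : TitsGroup, g ≠ 1 → ∃ u v : TitsGroup, g = (u * x * u⁻¹) * (v * x * v⁻¹) :=
  transfer (Classical.choice Ru.Schur.nonempty_tits_equiv) odd_X square_covers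

end CfsgLib.TitsSquare
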