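import Cfsg.Agent.TitsSquare.Defs

/-! The certificates for the centralisers of elements of odd prime order. -/

set_option autoImplicit false
set_option maxRecDepth 100000
set_option Elab.async false

namespace CfsgLib.TitsSquare

open CfsgLib.Coset

theorem levK : levOK SK = true := by decide +kernel
theorem lev3 : levOK D3.S = true := by decide +kernel
theorem lev5 : levOK D5.S = true := by decide +kernel
theorem lev13 : levOK D13.S = true := by decide +kernel
theorem base3 : D3.baseOK = true := by decide +kernel
theorem base5 : D5.baseOK = true := by decide +kernel
theorem base13 : D13.baseOK = true := by decide +kernel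
theorem ok3 : allBelow 11 1755 D3.ok = true := by decide +kernel
theorem ok5 : allBelow 11 1755 D5.ok = true := by decide +kernel
theorem ok13 : allBelow 11 1755 D13.ok = true := by decide +kernel
theorem cnt3 : Nat.beq (cnt 11 0 D3.hit) 108 = true := by decide +kernel
theorem cnt5 : Nat.beq (cnt 11 0 D5.hit) 50 = true := by decide +kernel
theorem cnt13 : Nat.beq (cnt 11 0 D13.hit) 13 = true := by decide +kernel

end CfsgLib.TitsSquare
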