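import Cfsg.Agent.Coset.Sift
import Cfsg.Agent.Coset.Ru.Pts55Data
import Cfsg.Agent.TitsSquare.Data

/-! Boolean tests for squares of a class of the Tits group. -/

set_option autoImplicit false

namespace CfsgLib.TitsSquare

open CfsgLib.Coset

/-- The table. -/
noncomputable abbrev Tb : Nat → Nat := Ru.Pts55.Tb

section Kernel

/-- The first position of a number in a list. -/
noncomputable def idxL (l : List Nat) (p : Nat) : Nat :=
  List.rec (motive := fun _ => Nat) 0 (fun a _ ih => cond (Nat.beq a p) 0 (Nat.add ih 1)) l

/-- The sifting data with a given last base point. -/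
noncomputable def mkS (r : Nat) (P : List Nat) : SiftData where
  k := 3
  m i := cond (Nat.beq i 0) 1755 (cond (Nat.beq i 1) 1024 10)
  B i := cond (Nat.beq i 0) 0 (cond (Nat.beq i 1) 5 r)
  W i j := cond (Nat.beq i 0) (W0 j) (cond (Nat.beq i 1) (W1 j) (W2L.getD j 0))
  I i p := cond (Nat.beq i 0) p (cond (Nat.beq i 1) (I1 p) (idxL P p))
  iv l := l

/-- The data used for the stabiliser. -/
noncomputable def SK : SiftData := mkS 1 P2K

/-- The test of sifting data. -/
noncomputable def levOK (S : SiftData) : Bool :=
  allBelow 2 3 fun i => S.checkLev Tb 1755 4 11 i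

/-- Counting on a dyadic interval. -/
noncomputable def cnt (d : Nat) : Nat → (Nat → Bool) → Nat :=
  Nat.rec (fun s f => cond (f s) 1 0)
    (fun _ ih s f => Nat.add (ih (Nat.mul 2 s) f) (ih (Nat.add (Nat.mul 2 s) 1) f)) d

/-- Repetition of a word. -/
noncomputable def rep (m : Nat) (w : List Nat) : List Nat :=
  Nat.rec (motive := fun _ => List Nat) [] (fun _ ih => w ++ ih) m

/-- A conjugate of the element of order thirteen. -/
noncomputable def cw (u : Nat) : List Nat := unpack 64 u ++ (xW ++ invWd id (unpack 64 u))

/-- Two words are certified to be equal. -/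
noncomputable def eqT (S : SiftData) (u w : List Nat) : Bool :=
  cond (checkLetters 4 [u, w]) (S.eqB Tb u w) false

/-- A word is certified to be trivial or a product of two conjugates. -/
noncomputable def sqOK (S : SiftData) (w : List Nat) (u v : Nat) : Bool :=
  cond (eqT S w []) true (eqT S w (cw u ++ cw v))

/-- The coordinates of a candidate in the point stabiliser. -/
noncomputable def jK (i l : Nat) : Nat :=
  cond (Nat.beq l 1) (Nat.land i 1023) (cond (Nat.beq l 2) (Nat.shiftRight i 10) 0)

/-- A candidate in the point stabiliser. -/
noncomputable def wK (i : Nat) : List Nat := SK.elw 3 (jK i)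

/-- A point is one of the pair. -/
noncomputable def inPair (q : Nat) : Bool := cond (Nat.beq q pairA) true (Nat.beq q pairB)

/-- A word preserves the pair. -/
noncomputable def presPair (w : List Nat) : Bool :=
  cond (inPair (followF (tget Tb) pairA w)) (inPair (followF (tget Tb) pairB w)) false

/-- A candidate is in the line stabiliser. -/
noncomputable def memK (i : Nat) : Bool :=
  cond (Nat.ble (Nat.add i 1) 10240) (presPair (wK i)) false

/-- The certificates of a candidate are right. -/
noncomputable def okK (i : Nat) : Bool :=
  cond (memK i) (force (CK i) fun c =>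
    sqOK SK (wK i) (Nat.land c 18446744073709551615) (Nat.shiftRight c 64)) true

/-- Data for an element of odd prime order. -/
structure CData where
  /-- the prime -/
  p : Nat
  /-- the last base point -/
  r : Nat
  /-- its images under the deepest transversal -/
  P : List Nat
  /-- the element -/
  t : List Nat
  /-- the exponent giving the last base point -/
  e : Nat
  /-- the certificates -/
  C : List (Nat × Nat × Nat × Nat × Nat)

/-- The sifting data. -/
noncomputable def CData.S (D : CData) : SiftData := mkS D.r D.P

/-- The images of the base under an element commuting with `t`. -/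
noncomputable def CData.img (D : CData) (q i : Nat) : Nat :=
  cond (Nat.beq i 0) q (cond (Nat.beq i 1) (followF (tget Tb) q D.t)
    (followF (tget Tb) q (rep D.e D.t)))

/-- The candidate with a given image of the first base point commutes with `t`. -/
noncomputable def CData.good (D : CData) (q : Nat) (w : List Nat) : Bool :=
  cond (D.S.eqB Tb (w ++ D.t) (D.t ++ w)) (Nat.beq (followF (tget Tb) 0 w) q) false

/-- There is an element of the centraliser with a given image of the first base point. -/
noncomputable def CData.hit (D : CData) (q : Nat) : Bool :=
  cond (Nat.ble (Nat.add q 1) 1755)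
    (Option.rec false (D.good q) (D.S.sift Tb (D.img q) 3)) false

/-- The certificate with a given key. -/
noncomputable def CData.cert (D : CData) (q : Nat) : Nat × Nat × Nat × Nat :=
  List.rec (motive := fun _ => Nat × Nat × Nat × Nat) (0, 0, 0, 0)
    (fun a _ ih => cond (Nat.beq a.1 q) a.2 ih) D.C

/-- An element of order `p` is certified to be conjugate to a power of `t`. -/
noncomputable def CData.pOK (D : CData) (w : List Nat) (c : Nat × Nat) : Bool :=
  cond (eqT D.S w []) true (cond (D.S.eqB Tb (rep D.p w) [])
    (cond (Nat.beq (Nat.mod c.2 D.p) 0) false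
      (eqT D.S w (unpack 64 c.1 ++ (rep c.2 D.t ++ invWd id (unpack 64 c.1))))) true)

/-- The certificates of a word are right. -/
noncomputable def CData.recOK (D : CData) (w : List Nat) (c : Nat × Nat × Nat × Nat) : Bool :=
  cond (sqOK D.S w c.1 c.2.1) (D.pOK w c.2.2) false

/-- The certificates of a candidate are right. -/
noncomputable def CData.ok (D : CData) (q : Nat) : Bool :=
  Option.rec true (fun w => cond (D.good q w) (D.recOK w (D.cert q)) true)
    (D.S.sift Tb (D.img q) 3)

/-- The element fits its base. -/
noncomputable def CData.baseOK (D : CData) : Bool :=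
  cond (checkLetters 4 [D.t]) (cond (Nat.beq (followF (tget Tb) 0 D.t) 5)
    (cond (Nat.beq (followF (tget Tb) 0 (rep D.e D.t)) D.r)
      (cond (D.S.eqB Tb (rep D.p D.t) []) (cond (D.S.eqB Tb D.t []) false true) false) false) false)
    false

/-- The data for the prime three. -/
noncomputable def D3 : CData := ⟨3, R3, P2_3, tW3, E3, C3⟩

/-- The data for the prime five. -/
noncomputable def D5 : CData := ⟨5, R5, P2_5, tW5, E5, C5⟩

/-- The data for the prime thirteen. -/
noncomputable def D13 : CData := ⟨13, R13, P2_13, tW13, E13, C13⟩

end Kernel

end CfsgLib.TitsSquare
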